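import Cfsg.Agent.H402.Rg.EvDefs
import Cfsg.Agent.H454.Reg.Tools
import Cfsg.Agent.H934.OutB
import Cfsg.Agent.H618.Dp.Red
import Cfsg.Agent.S0814
import Cfsg.Agent.S0246
import Cfsg.Agent.S2141

/-!
# S3691: exact factorizations with socle `PSp_4(2^f)`: the context (helper242, BOX C of helper402)

* `exists_ctxE` : an exact factorization with socle `PSp_4(2^f)`, `f ≥ 2`, in terms of subgroups of `Sp_4(2^f)`.
-/

set_option autoImplicit false
set_option linter.unusedSectionVars false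

namespace Cfsg.Agent.H242.Rg.CtxFour

open Matrix Cfsg Cfsg.Geo
open scoped MatrixGroups Matrix
open Cfsg.Agent.H402.Rg (CtxE)
open Cfsg.Agent.H454.Reg (Fac)
open Cfsg.Agent.H618.Dp (prj prj_surjective mem_pre_iff card_pre card_ker)
open Cfsg.Agent.H262.El (pre pre_le pre_ne)

variable {F : Type} [Field F] [Fintype F] {f : ℕ}

/-- the kernel of the projection is trivial in characteristic 2 -/
theorem card_ker_even (hf : 1 ≤ f) (hF : Fintype.card F = 2 ^ f) {m : ℕ} (hm : 1 ≤ m) :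
    Nat.card (prj (m := m) (F := F)).ker = 1 := by
  have h1 : Nat.card (prj (m := m) (F := F)).ker =
      Nat.card (Subgroup.center (Matrix.symplecticGroup (Fin m) F)) := by
    refine Nat.card_congr ⟨fun x => ⟨(Cfsg.Agent.H618.Dp.eSp (m := m) (F := F)).symm x.1, ?_⟩,
      fun A => ⟨Cfsg.Agent.H618.Dp.eSp A.1, ?_⟩, fun x => ?_, fun A => ?_⟩
    · have h2 := x.2
      rw [MonoidHom.mem_ker] at h2
      exact (QuotientGroup.eq_one_iff _).1 h2
    · rw [MonoidHom.mem_ker, Cfsg.Agent.H618.Dp.prj_eSp]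
      exact (QuotientGroup.eq_one_iff _).2 A.2
    · exact Subtype.ext (MulEquiv.apply_symm_apply _ _)
    · exact Subtype.ext (MulEquiv.symm_apply_apply _ _)
  rw [h1, Cfsg.Agent.S0246.result (q := Fintype.card F) rfl m hm, hF]
  have h2 : ¬ 2 ∣ 2 ^ f - 1 := by
    intro h3
    have h4 : 2 ∣ 2 ^ f := dvd_pow_self 2 (by omega)
    have h5 : 0 < 2 ^ f := by positivity
    omega
  exact (Nat.Prime.coprime_iff_not_dvd Nat.prime_two).2 h2

theorem eq_of_prj (hf : 1 ≤ f) (hF : Fintype.card F = 2 ^ f) {m : ℕ} (hm : 1 ≤ m) {x : spGL m F} (hx : prj x = 1) :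
    (x : GL (Fin m ⊕ Fin m) F) = 1 := by
  have hfin : Finite (GL (Fin m ⊕ Fin m) F) := inferInstance
  have h1 : (prj (m := m) (F := F)).ker = ⊥ := Subgroup.card_eq_one.1 (card_ker_even hf hF hm)
  have h2 : x ∈ (prj (m := m) (F := F)).ker := hx
  rw [h1, Subgroup.mem_bot] at h2
  rw [h2]
  rfl

universe u

/-- **the context of an exact factorization with socle `PSp_4(2^f)`** -/
theorem exists_ctxE {G : Type u} [Group G] [Finite G] {T X Y : Subgroup G} (h : Fac T X Y) (i : T ≃* PSp 2 F)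
    (hf : 2 ≤ f) (hF : Fintype.card F = 2 ^ f) : ∃ X₁ Y₁ e, CtxE F f X₁ Y₁ e := by
  classical
  have hfin : Finite (GL (Fin 2 ⊕ Fin 2) F) := inferInstance
  have := h.simple
  have hpf : Fact (Nat.Prime 2) := ⟨Nat.prime_two⟩
  have h4 : 4 ≤ Fintype.card F := by
    rw [hF]
    calc 4 = 2 ^ 2 := by norm_num
      _ ≤ 2 ^ f := Nat.pow_le_pow_right (by norm_num) hf
  have h3 : 3 ≤ Fintype.card F := by omega
  have hout : Nat.card (Out T) = 2 * f := by
    apply Cfsg.Agent.H934.OutB.card_out_of_aut h.nonab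
    rw [Nat.card_congr (MulAut.congr i).toEquiv, S0814.result 2 f (by omega) hF 2 le_rfl (fun _ => by rw [← hF]; exact h3),
      Nat.card_congr i.toEquiv, if_pos ⟨rfl, rfl⟩]
    have h5 : Nat.gcd 2 (2 ^ f - 1) = 1 := by
      refine (Nat.Prime.coprime_iff_not_dvd Nat.prime_two).2 ?_
      intro h3
      have h4 : 2 ∣ 2 ^ f := dvd_pow_self 2 (by omega)
      have h5 : 0 < 2 ^ f := by positivity
      omega
    rw [h5, mul_one]
  obtain ⟨e, -, he, hcard⟩ := h.card0
  rw [hout] at he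
  have hker := card_ker_even (m := 2) (by omega) hF (by norm_num)
  set X0 : Subgroup (PSp 2 F) := (X.subgroupOf T).map i.toMonoidHom with hX0
  set Y0 : Subgroup (PSp 2 F) := (Y.subgroupOf T).map i.toMonoidHom with hY0
  have hcX : Nat.card X0 = Nat.card (X.subgroupOf T) := Subgroup.card_map_of_injective i.injective
  have hcY : Nat.card Y0 = Nat.card (Y.subgroupOf T) := Subgroup.card_map_of_injective i.injective
  have hX0t : X0 ≠ ⊤ := by
    intro h0
    apply h.ne_top_left
    apply Subgroup.map_injective (f := i.toMonoidHom) i.injective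
    rw [← hX0, h0]
    exact (Subgroup.map_top_of_surjective _ i.surjective).symm
  have hY0t : Y0 ≠ ⊤ := by
    intro h0
    apply h.ne_top_right
    apply Subgroup.map_injective (f := i.toMonoidHom) i.injective
    rw [← hY0, h0]
    exact (Subgroup.map_top_of_surjective _ i.surjective).symm
  have hmin : ∀ R : Subgroup (PSp 2 F), R ≠ ⊤ → Nat.card (pre R) * ((Fintype.card F ^ 4 - 1) / (Fintype.card F - 1)) ≤
      Nat.card (spGL 2 F) := by
    intro R hR
    have h1 := (S2141.result (F := F) rfl 2 le_rfl h3 (by omega)).1 R hR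
    rw [← card_ker (m := 2) (F := F), card_pre, mul_comm (Nat.card R), mul_assoc, ← R.card_mul_index]
    exact Nat.mul_le_mul_left _ (Nat.mul_le_mul_left _ h1)
  refine ⟨pre X0, pre Y0, e, pre_le _, pre_le _, pre_ne hX0t, pre_ne hY0t, ?_, ?_, he, hmin _ hX0t, hmin _ hY0t⟩
  · intro x hx g hg hy
    have hxS := pre_le _ hx
    have h1 := (mem_pre_iff (⟨x, hxS⟩ : spGL 2 F)).1 hx
    have hyS := pre_le _ hy
    have h2 := (mem_pre_iff (⟨g * x * g⁻¹, hyS⟩ : spGL 2 F)).1 hy
    obtain ⟨t, ht, htx⟩ := h1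
    obtain ⟨t', ht', ht'x⟩ := h2
    obtain ⟨s, hs⟩ := i.surjective (prj (⟨g, hg⟩ : spGL 2 F))
    have h3 : t' = s * t * s⁻¹ := by
      apply i.injective
      rw [map_mul, map_mul, map_inv, hs]
      have h4 : i t = prj (⟨x, hxS⟩ : spGL 2 F) := htx
      have h5 : i t' = prj (⟨g * x * g⁻¹, hyS⟩ : spGL 2 F) := ht'x
      rw [h4, h5, ← map_inv, ← map_mul, ← map_mul]
      rfl
    have h4 : (t : G) = 1 := by
      refine h.not_conj (Subgroup.mem_subgroupOf.1 ht) (s : G) ?_
      have h5 : ((s * t * s⁻¹ : T) : G) ∈ Y := by rw [← h3]; exact Subgroup.mem_subgroupOf.1 ht'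
      exact h5
    have h5 : t = 1 := Subtype.ext h4
    have h6 : prj (⟨x, hxS⟩ : spGL 2 F) = 1 := by
      have h7 : i t = prj (⟨x, hxS⟩ : spGL 2 F) := htx
      rw [← h7, h5, map_one]
    exact eq_of_prj (by omega) hF (by norm_num) h6
  · rw [card_pre, card_pre, hker, hcX, hcY]
    have h1 := card_ker (m := 2) (F := F)
    rw [hker, ← Nat.card_congr i.toEquiv] at h1
    rw [← h1, ← hcard]
    ring

end Cfsg.Agent.H242.Rg.CtxFour
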